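import Mathlib

/-!
# A rigidity lemma for factorizations in a Noetherian local UFD (helper8)

If `a b = t₁ t₂ ≠ 0` with `a ≡ t₁`, `b ≡ t₂` modulo a high power of the maximal ideal, then
`a ~ t₁`, `b ~ t₂`.
-/

set_option autoImplicit false
universe u

namespace Groth.Agent.H8.NodeRetr

open IsLocalRing

section krull
variable {T : Type u} [CommRing T] [IsNoetherianRing T] [IsLocalRing T]

/-- ideals are closed in the `𝔪`-adic topology -/
theorem mem_of_forall_mem_sup_pow (I : Ideal T) (x : T)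
    (h : ∀ N : ℕ, x ∈ I ⊔ maximalIdeal T ^ N) : x ∈ I := by
  have hbot := Ideal.iInf_pow_smul_eq_bot_of_isLocalRing (R := T) (M := T ⧸ I) (maximalIdeal T)
    (Ideal.IsPrime.ne_top inferInstance)
  have hx : (Ideal.Quotient.mk I x : T ⧸ I) ∈
      (⨅ i : ℕ, maximalIdeal T ^ i • ⊤ : Submodule T (T ⧸ I)) := by
    rw [Submodule.mem_iInf]
    intro N
    obtain ⟨i, hi, m, hm, rfl⟩ := Submodule.mem_sup.mp (h N)
    have e : (Ideal.Quotient.mk I (i + m) : T ⧸ I) = m • (1 : T ⧸ I) := by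
      rw [map_add, Ideal.Quotient.eq_zero_iff_mem.mpr hi, zero_add, Algebra.smul_def, mul_one]
      rfl
    rw [e]
    exact Submodule.smul_mem_smul hm Submodule.mem_top
  rw [hbot, Submodule.mem_bot] at hx
  exact Ideal.Quotient.eq_zero_iff_mem.mp hx

end krull

section ufd
variable {T : Type u} [CommRing T] [IsDomain T]

theorem assoc_right_of_assoc_left {t₁ t₂ a b : T} (ht₁ : t₁ ≠ 0) (hab : a * b = t₁ * t₂)
    (ha : Associated a t₁) : Associated b t₂ := by
  obtain ⟨u, hu⟩ := ha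
  have ha0 : a ≠ 0 := by
    rintro rfl
    apply ht₁
    rw [← hu, zero_mul]
  have h1 : a * (↑u * t₂) = a * b := by
    rw [hab, ← hu]
    ring
  have h2 : (↑u : T) * t₂ = b := mul_left_cancel₀ ha0 h1
  exact Associated.symm ⟨u, by rw [← h2, mul_comm]⟩

variable [IsNoetherianRing T] [IsLocalRing T]

theorem assoc_of_forall_approx {t₁ t₂ a₀ b₀ : T} (hΔ : t₁ * t₂ ≠ 0) (h0 : a₀ * b₀ = t₁ * t₂)
    (h : ∀ N : ℕ, ∃ a b : T, a * b = t₁ * t₂ ∧ Associated a a₀ ∧
      a - t₁ ∈ maximalIdeal T ^ N ∧ b - t₂ ∈ maximalIdeal T ^ N) :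
    Associated a₀ t₁ := by
  have ha₀ : a₀ ≠ 0 := left_ne_zero_of_mul (h0 ▸ hΔ)
  have h1 : t₁ ∈ Ideal.span {a₀} := by
    apply mem_of_forall_mem_sup_pow
    intro N
    obtain ⟨a, b, hab, haa, ha, hb⟩ := h N
    have e : t₁ = a - (a - t₁) := by ring
    rw [e]
    refine Ideal.sub_mem _ (Ideal.mem_sup_left ?_) (Ideal.mem_sup_right ha)
    obtain ⟨u, hu⟩ := haa.symm
    rw [← hu]
    exact Ideal.mul_mem_right _ _ (Ideal.subset_span rfl)
  have h2 : t₂ ∈ Ideal.span {b₀} := by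
    apply mem_of_forall_mem_sup_pow
    intro N
    obtain ⟨a, b, hab, haa, ha, hb⟩ := h N
    have e : t₂ = b - (b - t₂) := by ring
    rw [e]
    refine Ideal.sub_mem _ (Ideal.mem_sup_left ?_) (Ideal.mem_sup_right hb)
    have hbb : Associated b b₀ := assoc_right_of_assoc_left ha₀ (hab.trans h0.symm) haa
    obtain ⟨u, hu⟩ := hbb.symm
    rw [← hu]
    exact Ideal.mul_mem_right _ _ (Ideal.subset_span rfl)
  obtain ⟨s, hs⟩ := Ideal.mem_span_singleton'.mp h1
  obtain ⟨s', hs'⟩ := Ideal.mem_span_singleton'.mp h2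
  have e : t₁ * t₂ * (s * s') = t₁ * t₂ * 1 := by
    linear_combination (-(s * s')) * h0 + (s' * b₀) * hs + t₁ * hs'
  have hss : s * s' = 1 := mul_left_cancel₀ hΔ e
  refine ⟨Units.mkOfMulEqOne s s' hss, ?_⟩
  show a₀ * s = t₁
  rw [mul_comm, hs]

variable [UniqueFactorizationMonoid T]

/-- **Rigidity of factorizations.** -/
theorem exists_pow_forall_assoc (t₁ t₂ : T) (hΔ : t₁ * t₂ ≠ 0) :
    ∃ N : ℕ, ∀ a b : T, a * b = t₁ * t₂ → a - t₁ ∈ maximalIdeal T ^ N →
      b - t₂ ∈ maximalIdeal T ^ N → Associated a t₁ ∧ Associated b t₂ := by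
  classical
  by_contra hcon
  have hcon' : ∀ N : ℕ, ∃ a b : T, a * b = t₁ * t₂ ∧ a - t₁ ∈ maximalIdeal T ^ N ∧
      b - t₂ ∈ maximalIdeal T ^ N ∧ ¬ (Associated a t₁ ∧ Associated b t₂) := by
    intro N
    by_contra hN
    apply hcon
    refine ⟨N, fun a b hab ha hb => ?_⟩
    by_contra hnot
    exact hN ⟨a, b, hab, ha, hb, hnot⟩
  choose a b hab ha hb hnot using hcon'
  have ht₁ : t₁ ≠ 0 := left_ne_zero_of_mul hΔ
  haveI : Fintype {d : Associates T // d ∣ Associates.mk (t₁ * t₂)} :=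
    UniqueFactorizationMonoid.fintypeSubtypeDvd (Associates.mk (t₁ * t₂))
      (by rwa [Ne, Associates.mk_eq_zero])
  let f : ℕ → {d : Associates T // d ∣ Associates.mk (t₁ * t₂)} := fun N =>
    ⟨Associates.mk (a N), Associates.mk_dvd_mk.mpr ⟨b N, (hab N).symm⟩⟩
  obtain ⟨d, hd⟩ := Finite.exists_infinite_fiber f
  have hinf : (f ⁻¹' {d}).Infinite := Set.infinite_coe_iff.mp hd
  obtain ⟨N₀, hN₀⟩ := hinf.nonempty
  have hkey : Associated (a N₀) t₁ := by
    apply assoc_of_forall_approx hΔ (hab N₀)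
    intro N
    obtain ⟨N', hN', hlt⟩ := hinf.exists_gt N
    refine ⟨a N', b N', hab N', ?_, ?_, ?_⟩
    · have e1 : f N' = f N₀ := by
        rw [Set.mem_preimage, Set.mem_singleton_iff] at hN' hN₀
        rw [hN', hN₀]
      have e2 : Associates.mk (a N') = Associates.mk (a N₀) := congrArg Subtype.val e1
      exact Associates.mk_eq_mk_iff_associated.mp e2
    · exact Ideal.pow_le_pow_right hlt.le (ha N')
    · exact Ideal.pow_le_pow_right hlt.le (hb N')
  exact hnot N₀ ⟨hkey, assoc_right_of_assoc_left ht₁ (hab N₀) hkey⟩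

end ufd

end Groth.Agent.H8.NodeRetr
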