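import Mathlib
import Groth.Prelude.Def_EGA4b
import Groth.Agent.Lib.Helper3.CA.CplMap
import Groth.Agent.Lib.Helper5.CA.PSExt
import Groth.Agent.Lib.Helper5.Pop.Approx
import Groth.Agent.Lib.Helper5.Pop.GRingAdic
import Groth.Agent.Lib.Helper8.Japanese.ComplRed9
import Groth.Agent.Lib.Helper8.NodeRetr.UFD
import Groth.Agent.S0543

/-!
# Sections of a node `uv = Δ` through a point, realizing a factorization `Δ = t₁ t₂` (helper8)
-/

set_option autoImplicit false
universe u

namespace Groth.Agent.H8.NodeRetr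

open IsLocalRing

section retr
variable {R : Type u} [CommRing R] [IsLocalRing R] {C : Type u} [CommRing C] [IsLocalRing C]
  [Algebra R C]

/-- an `R`-retraction of a local `R`-algebra onto the local ring `R` is a local homomorphism -/
theorem map_maximalIdeal_le_of_retraction (g : C →ₐ[R] R) :
    (maximalIdeal C).map g.toRingHom ≤ maximalIdeal R := by
  have hsurj : Function.Surjective ((IsLocalRing.residue R).comp g.toRingHom) := by
    intro x
    obtain ⟨r, rfl⟩ := IsLocalRing.residue_surjective x
    refine ⟨algebraMap R C r, ?_⟩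
    show IsLocalRing.residue R (g (algebraMap R C r)) = _
    rw [AlgHom.commutes]
    rfl
  have hker : RingHom.ker ((IsLocalRing.residue R).comp g.toRingHom) = maximalIdeal C :=
    IsLocalRing.eq_maximalIdeal (RingHom.ker_isMaximal_of_surjective _ hsurj)
  rw [Ideal.map_le_iff_le_comap]
  intro c hc
  rw [← hker, RingHom.mem_ker, RingHom.comp_apply] at hc
  exact (IsLocalRing.residue_eq_zero_iff _).mp hc

end retr

open MvPowerSeries in
theorem main
    (R : Type u) [CommRing R] [IsNoetherianRing R] [IsDomain R]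
    [HenselianLocalRing R] (hG : CAlg.IsGRing R)
    [IsDomain (AdicCompletion (maximalIdeal R) R)]
    [UniqueFactorizationMonoid (AdicCompletion (maximalIdeal R) R)]
    (Δ t₁ t₂ : R) (hΔ : Δ ≠ 0) (ht₁ : t₁ ∈ maximalIdeal R) (ht₂ : t₂ ∈ maximalIdeal R)
    (ht : t₁ * t₂ = Δ)
    (C : Type u) [CommRing C] [IsLocalRing C] [Algebra R C]
    [Algebra.EssFiniteType R C]
    (ψ : AdicCompletion (maximalIdeal C) C ≃+*
      (MvPowerSeries (Fin 2) (AdicCompletion (maximalIdeal R) R) ⧸
        Ideal.span {(X 0 * X 1 - MvPowerSeries.C (algebraMap R (AdicCompletion (maximalIdeal R) R) Δ) :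
          MvPowerSeries (Fin 2) (AdicCompletion (maximalIdeal R) R))}))
    (hψ : ψ.toRingHom.comp ((algebraMap C (AdicCompletion (maximalIdeal C) C)).comp (algebraMap R C)) =
      (Ideal.Quotient.mk _).comp ((MvPowerSeries.C : AdicCompletion (maximalIdeal R) R →+*
        MvPowerSeries (Fin 2) (AdicCompletion (maximalIdeal R) R)).comp
          (algebraMap R (AdicCompletion (maximalIdeal R) R)))) :
    ∃ (g : C →ₐ[R] R) (ĝ : AdicCompletion (maximalIdeal C) C →+* AdicCompletion (maximalIdeal R) R),
      ĝ.comp (algebraMap C (AdicCompletion (maximalIdeal C) C)) =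
        (algebraMap R (AdicCompletion (maximalIdeal R) R)).comp g.toRingHom ∧
      Ideal.span {ĝ (ψ.symm (Ideal.Quotient.mk _ (X 0)))} =
        Ideal.span {algebraMap R (AdicCompletion (maximalIdeal R) R) t₁} ∧
      Ideal.span {ĝ (ψ.symm (Ideal.Quotient.mk _ (X 1)))} =
        Ideal.span {algebraMap R (AdicCompletion (maximalIdeal R) R) t₂} := by
  classical
  haveI hNoeth : IsNoetherianRing (AdicCompletion (maximalIdeal R) R) :=
    Groth.Agent.S0543.result R (maximalIdeal R)
  have hfgR : (maximalIdeal R).FG := IsNoetherian.noetherian _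
  haveI hcompl : IsAdicComplete ((maximalIdeal R).map
      (algebraMap R (AdicCompletion (maximalIdeal R) R))) (AdicCompletion (maximalIdeal R) R) :=
    AdicCompletion.isAdicComplete_self _ hfgR
  have hmax : maximalIdeal (AdicCompletion (maximalIdeal R) R) =
      (maximalIdeal R).map (algebraMap R (AdicCompletion (maximalIdeal R) R)) :=
    AdicCompletion.maximalIdeal_eq_map
  -- the completion map is injective
  have hιinj : Function.Injective (algebraMap R (AdicCompletion (maximalIdeal R) R)) := by
    rw [injective_iff_map_eq_zero]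
    intro r hr
    have h1 : r ∈ (⨅ n : ℕ, maximalIdeal R ^ n) := by
      rw [Ideal.mem_iInf]
      intro n
      have h2 := congrArg (AdicCompletion.evalₐ (maximalIdeal R) n) hr
      rw [AlgHom.commutes, map_zero] at h2
      exact Ideal.Quotient.eq_zero_iff_mem.mp h2
    rw [Ideal.iInf_pow_eq_bot_of_isLocalRing _ (Ideal.IsPrime.ne_top inferInstance)] at h1
    exact h1
  have hΔh : algebraMap R (AdicCompletion (maximalIdeal R) R) t₁ *
      algebraMap R (AdicCompletion (maximalIdeal R) R) t₂ ≠ 0 := by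
    rw [← map_mul, ht]
    exact fun h => hΔ (hιinj (by rw [h, map_zero]))
  obtain ⟨N, hN⟩ := exists_pow_forall_assoc (T := AdicCompletion (maximalIdeal R) R)
    (algebraMap R _ t₁) (algebraMap R _ t₂) hΔh
  -- the formal solution
  obtain ⟨Ψ, hΨX⟩ := Groth.Agent.H5.CA.exists_algHom_mvPowerSeries' (σ := Fin 2)
    (AdicCompletion (maximalIdeal R) R) (AdicCompletion (maximalIdeal R) R)
    ((maximalIdeal R).map (algebraMap R (AdicCompletion (maximalIdeal R) R)))
    (fun i => if i = 0 then algebraMap R _ t₁ else algebraMap R _ t₂) (fun i => by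
      by_cases hi : i = 0
      · simp only [hi, if_true]; exact Ideal.mem_map_of_mem _ ht₁
      · simp only [hi, if_false]; exact Ideal.mem_map_of_mem _ ht₂)
  have hΨ0 : Ψ (X 0) = algebraMap R _ t₁ := by simp [hΨX]
  have hΨ1 : Ψ (X 1) = algebraMap R _ t₂ := by simp [hΨX]
  have hΨC : ∀ a, Ψ (MvPowerSeries.C a) = a := fun a => by
    have := Ψ.commutes a
    simpa [MvPowerSeries.algebraMap_apply] using this
  have hΨp : Ψ (X 0 * X 1 - MvPowerSeries.C (algebraMap R (AdicCompletion (maximalIdeal R) R) Δ)) = 0 := by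
    rw [map_sub, map_mul, hΨ0, hΨ1, hΨC, ← map_mul, ht, sub_self]
  obtain ⟨ev, hev⟩ : ∃ ev : (MvPowerSeries (Fin 2) (AdicCompletion (maximalIdeal R) R) ⧸
        Ideal.span {(X 0 * X 1 - MvPowerSeries.C (algebraMap R (AdicCompletion (maximalIdeal R) R) Δ) :
          MvPowerSeries (Fin 2) (AdicCompletion (maximalIdeal R) R))}) →+*
        AdicCompletion (maximalIdeal R) R, ∀ x, ev (Ideal.Quotient.mk _ x) = Ψ x := by
    refine ⟨Ideal.Quotient.lift _ Ψ.toRingHom (fun a ha => ?_), fun x => Ideal.Quotient.lift_mk _ _ _⟩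
    have hle : Ideal.span {(X 0 * X 1 - MvPowerSeries.C (algebraMap R (AdicCompletion (maximalIdeal R) R) Δ) :
          MvPowerSeries (Fin 2) (AdicCompletion (maximalIdeal R) R))} ≤ RingHom.ker Ψ.toRingHom := by
      rw [Ideal.span_le, Set.singleton_subset_iff]
      exact hΨp
    exact hle ha
  have hcomm : ∀ r : R, ev (ψ (algebraMap C (AdicCompletion (maximalIdeal C) C) (algebraMap R C r))) =
      algebraMap R _ r := by
    intro r
    have h1 := RingHom.congr_fun hψ r
    have h2 : ψ (algebraMap C (AdicCompletion (maximalIdeal C) C) (algebraMap R C r)) =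
        Ideal.Quotient.mk _ (MvPowerSeries.C (algebraMap R (AdicCompletion (maximalIdeal R) R) r)) := h1
    rw [h2, hev, hΨC]
  let f₀ : C →ₐ[R] AdicCompletion (maximalIdeal R) R :=
    { (ev.comp ψ.toRingHom).comp (algebraMap C (AdicCompletion (maximalIdeal C) C)) with
      commutes' := fun r => hcomm r }
  have hf₀ : ∀ c : C, f₀ c = ev (ψ (algebraMap C (AdicCompletion (maximalIdeal C) C) c)) := fun c => rfl
  -- Artin approximation
  haveI : Algebra.FinitePresentation R (Algebra.EssFiniteType.subalgebra R C) :=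
    Algebra.FinitePresentation.of_finiteType.mp inferInstance
  haveI : HenselianRing R (maximalIdeal R) := inferInstance
  have hreg := Groth.Agent.H5.Pop.isRegularHom_adicCompletion_of_isGRing R hG (maximalIdeal R)
  obtain ⟨τ, hτ⟩ := Groth.Agent.H5.Pop.artin_approx (maximalIdeal R) hreg
    (f₀.comp (Algebra.EssFiniteType.subalgebra R C).val) (N + 1)
  have hτ' : ∀ c : Algebra.EssFiniteType.subalgebra R C,
      f₀ (algebraMap (Algebra.EssFiniteType.subalgebra R C) C c) -
        algebraMap R (AdicCompletion (maximalIdeal R) R) (τ c) ∈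
      (maximalIdeal R ^ (N + 1)).map (algebraMap R (AdicCompletion (maximalIdeal R) R)) :=
    fun c => hτ c
  have hunit : ∀ y : Algebra.EssFiniteType.submonoid R C, IsUnit (τ.toRingHom (y : _)) := by
    intro y
    have hy : IsUnit (algebraMap (Algebra.EssFiniteType.subalgebra R C) C (y : _)) := y.2
    have h1 : IsUnit (f₀ (algebraMap (Algebra.EssFiniteType.subalgebra R C) C (y : _))) := hy.map f₀
    by_contra hnu
    have h2 : τ (y : _) ∈ maximalIdeal R :=
      (IsLocalRing.mem_maximalIdeal _).mpr (mem_nonunits_iff.mpr hnu)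
    have h3 : algebraMap R (AdicCompletion (maximalIdeal R) R) (τ (y : _)) ∈
        maximalIdeal (AdicCompletion (maximalIdeal R) R) := by
      rw [hmax]
      exact Ideal.mem_map_of_mem _ h2
    have h4 : f₀ (algebraMap (Algebra.EssFiniteType.subalgebra R C) C (y : _)) -
        algebraMap R (AdicCompletion (maximalIdeal R) R) (τ (y : _)) ∈
        maximalIdeal (AdicCompletion (maximalIdeal R) R) := by
      rw [hmax]
      exact Ideal.map_mono (Ideal.pow_le_self (Nat.succ_ne_zero N)) (hτ' y)
    have h5 : f₀ (algebraMap (Algebra.EssFiniteType.subalgebra R C) C (y : _)) ∈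
        maximalIdeal (AdicCompletion (maximalIdeal R) R) := by
      have := Ideal.add_mem _ h4 h3
      rwa [sub_add_cancel] at this
    exact (mem_nonunits_iff.mp ((IsLocalRing.mem_maximalIdeal _).mp h5)) h1
  let g0 : C →+* R := IsLocalization.lift (M := Algebra.EssFiniteType.submonoid R C)
    (g := τ.toRingHom) hunit
  have hg0 : ∀ c : Algebra.EssFiniteType.subalgebra R C,
      g0 (algebraMap (Algebra.EssFiniteType.subalgebra R C) C c) = τ c :=
    fun c => IsLocalization.lift_eq _ _
  let g : C →ₐ[R] R :=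
    { g0 with
      commutes' := fun r => by
        show g0 (algebraMap R C r) = algebraMap R R r
        rw [IsScalarTower.algebraMap_apply R (Algebra.EssFiniteType.subalgebra R C) C, hg0,
          AlgHom.commutes] }
  have hgg0 : ∀ c : C, g c = g0 c := fun c => rfl
  have hgloc := map_maximalIdeal_le_of_retraction g
  let gh := Groth.Agent.H3.CplMap.cplMap g.toRingHom (maximalIdeal C) (maximalIdeal R) hgloc
  have hgh_of : ∀ c : C, gh (algebraMap C (AdicCompletion (maximalIdeal C) C) c) =
      algebraMap R (AdicCompletion (maximalIdeal R) R) (g c) :=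
    fun c => Groth.Agent.H3.CplMap.cplMap_of _ _ _ _ c
  -- C is Noetherian
  haveI : IsNoetherianRing (Algebra.EssFiniteType.subalgebra R C) :=
    Algebra.FiniteType.isNoetherianRing R _
  haveI : IsNoetherianRing C :=
    IsLocalization.isNoetherianRing (Algebra.EssFiniteType.submonoid R C) C inferInstance
  have hfgC : (maximalIdeal C).FG := IsNoetherian.noetherian _
  -- comparison modulo `𝔪^(N+1)`
  let E : AdicCompletion (maximalIdeal R) R →+* R ⧸ maximalIdeal R ^ (N + 1) :=
    (AdicCompletion.evalₐ (maximalIdeal R) (N + 1)).toRingHom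
  have hEι : ∀ r : R, E (algebraMap R (AdicCompletion (maximalIdeal R) R) r) =
      Ideal.Quotient.mk _ r := fun r => AlgHom.commutes _ r
  have hEker : ∀ x, x ∈ (maximalIdeal R ^ (N + 1)).map
      (algebraMap R (AdicCompletion (maximalIdeal R) R)) → E x = 0 := by
    intro x hx
    have hle : (maximalIdeal R ^ (N + 1)).map (algebraMap R (AdicCompletion (maximalIdeal R) R)) ≤
        RingHom.ker E := by
      rw [Ideal.map_le_iff_le_comap]
      intro a ha
      rw [Ideal.mem_comap, RingHom.mem_ker, hEι]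
      exact Ideal.Quotient.eq_zero_iff_mem.mpr ha
    exact hle hx
  let Φ₁ : AdicCompletion (maximalIdeal C) C →+* R ⧸ maximalIdeal R ^ (N + 1) := E.comp gh
  let Φ₂ : AdicCompletion (maximalIdeal C) C →+* R ⧸ maximalIdeal R ^ (N + 1) :=
    E.comp (ev.comp ψ.toRingHom)
  have hC : Φ₁.comp (algebraMap C (AdicCompletion (maximalIdeal C) C)) =
      Φ₂.comp (algebraMap C (AdicCompletion (maximalIdeal C) C)) := by
    apply IsLocalization.ringHom_ext (Algebra.EssFiniteType.submonoid R C)
    ext c
    show E (gh (algebraMap C (AdicCompletion (maximalIdeal C) C)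
        (algebraMap (Algebra.EssFiniteType.subalgebra R C) C c))) =
      E (ev (ψ (algebraMap C (AdicCompletion (maximalIdeal C) C)
        (algebraMap (Algebra.EssFiniteType.subalgebra R C) C c))))
    rw [hgh_of, hEι, hgg0, hg0]
    have h1 := hEker _ (hτ' c)
    rw [map_sub, hEι, sub_eq_zero, hf₀] at h1
    exact h1.symm
  have hker1 : (maximalIdeal C ^ (N + 1)).map (algebraMap C (AdicCompletion (maximalIdeal C) C)) ≤
      RingHom.ker Φ₁ := by
    rw [Ideal.map_le_iff_le_comap]
    intro a ha
    rw [Ideal.mem_comap, RingHom.mem_ker]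
    show E (gh (algebraMap C (AdicCompletion (maximalIdeal C) C) a)) = 0
    rw [hgh_of, hEι]
    apply Ideal.Quotient.eq_zero_iff_mem.mpr
    have h1 : g.toRingHom a ∈ ((maximalIdeal C) ^ (N + 1)).map g.toRingHom :=
      Ideal.mem_map_of_mem _ ha
    rw [Ideal.map_pow] at h1
    exact Ideal.pow_right_mono hgloc _ h1
  have hker2 : (maximalIdeal C ^ (N + 1)).map (algebraMap C (AdicCompletion (maximalIdeal C) C)) ≤
      RingHom.ker Φ₂ := by
    rw [Ideal.map_le_iff_le_comap]
    intro a ha
    rw [Ideal.mem_comap, RingHom.mem_ker]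
    have e1 : Φ₂ (algebraMap C (AdicCompletion (maximalIdeal C) C) a) =
        Φ₁ (algebraMap C (AdicCompletion (maximalIdeal C) C) a) := (RingHom.congr_fun hC a).symm
    rw [e1]
    exact (RingHom.mem_ker).mp (hker1 (Ideal.mem_map_of_mem _ ha))
  have hΦ : ∀ x, Φ₁ x = Φ₂ x := by
    intro x
    obtain ⟨c, hc⟩ := Ideal.Quotient.mk_surjective
      (AdicCompletion.evalₐ (maximalIdeal C) (N + 1) x)
    have hy : x - algebraMap C (AdicCompletion (maximalIdeal C) C) c ∈
        (maximalIdeal C ^ (N + 1)).map (algebraMap C (AdicCompletion (maximalIdeal C) C)) := by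
      apply Groth.Agent.H8.Jap.ComplRed.mem_map_pow_of_evalₐ_eq_zero _ hfgC
      rw [map_sub, AlgHom.commutes, ← hc, sub_eq_zero]
      rfl
    have h1 := (RingHom.mem_ker).mp (hker1 hy)
    have h2 := (RingHom.mem_ker).mp (hker2 hy)
    rw [map_sub, sub_eq_zero] at h1 h2
    rw [h1, h2]
    exact RingHom.congr_fun hC c
  have hclose : ∀ x, gh x - ev (ψ x) ∈
      (maximalIdeal R ^ (N + 1)).map (algebraMap R (AdicCompletion (maximalIdeal R) R)) := by
    intro x
    apply Groth.Agent.H8.Jap.ComplRed.mem_map_pow_of_evalₐ_eq_zero _ hfgR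
    rw [map_sub, sub_eq_zero]
    exact hΦ x
  have hclose' : ∀ x, gh x - ev (ψ x) ∈ maximalIdeal (AdicCompletion (maximalIdeal R) R) ^ N := by
    intro x
    rw [hmax, ← Ideal.map_pow]
    exact Ideal.map_mono (Ideal.pow_le_pow_right (Nat.le_succ N)) (hclose x)
  -- the two elements
  have hab : gh (ψ.symm (Ideal.Quotient.mk _ (X 0))) * gh (ψ.symm (Ideal.Quotient.mk _ (X 1))) =
      algebraMap R (AdicCompletion (maximalIdeal R) R) t₁ *
        algebraMap R (AdicCompletion (maximalIdeal R) R) t₂ := by
    rw [← map_mul, ← map_mul]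
    have e1 : (Ideal.Quotient.mk (Ideal.span {(X 0 * X 1 - MvPowerSeries.C (algebraMap R (AdicCompletion (maximalIdeal R) R) Δ) :
          MvPowerSeries (Fin 2) (AdicCompletion (maximalIdeal R) R))}) (X 0) *
        Ideal.Quotient.mk _ (X 1)) =
        Ideal.Quotient.mk _ (MvPowerSeries.C (algebraMap R (AdicCompletion (maximalIdeal R) R) Δ)) := by
      rw [← map_mul, Ideal.Quotient.eq]
      exact Ideal.subset_span rfl
    have e2 : ψ (algebraMap C (AdicCompletion (maximalIdeal C) C) (algebraMap R C Δ)) =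
        Ideal.Quotient.mk _ (MvPowerSeries.C (algebraMap R (AdicCompletion (maximalIdeal R) R) Δ)) :=
      RingHom.congr_fun hψ Δ
    rw [e1, ← e2, RingEquiv.symm_apply_apply, hgh_of, AlgHom.commutes, ← map_mul, ht]
    rfl
  have ha : gh (ψ.symm (Ideal.Quotient.mk _ (X 0))) - algebraMap R (AdicCompletion (maximalIdeal R) R) t₁ ∈
      maximalIdeal (AdicCompletion (maximalIdeal R) R) ^ N := by
    have h1 := hclose' (ψ.symm (Ideal.Quotient.mk _ (X 0)))
    rwa [RingEquiv.apply_symm_apply, hev, hΨ0] at h1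
  have hb : gh (ψ.symm (Ideal.Quotient.mk _ (X 1))) - algebraMap R (AdicCompletion (maximalIdeal R) R) t₂ ∈
      maximalIdeal (AdicCompletion (maximalIdeal R) R) ^ N := by
    have h1 := hclose' (ψ.symm (Ideal.Quotient.mk _ (X 1)))
    rwa [RingEquiv.apply_symm_apply, hev, hΨ1] at h1
  obtain ⟨h1, h2⟩ := hN _ _ hab ha hb
  refine ⟨g, gh, RingHom.ext fun c => hgh_of c, ?_, ?_⟩
  · exact Ideal.span_singleton_eq_span_singleton.mpr h1
  · exact Ideal.span_singleton_eq_span_singleton.mpr h2

end Groth.Agent.H8.NodeRetr
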